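import Groth.Agent.MultQuot.OrbitClosed
import Groth.Agent.MultTypeLib.SchemeBridge
import Groth.Agent.GrpSchLib.MultTypeLfp
import Groth.Agent.FpqcDescLib.Basic
import Groth.Agent.S5246
import Groth.Agent.S6064
import Groth.Prelude.Def_RedSub

/-!
# The quotient by the centraliser of a subgroup of multiplicative type
-/

universe u

open CategoryTheory CategoryTheory.Limits MonoidalCategory CartesianMonoidalCategory MonObj AlgebraicGeometry

set_option backward.isDefEq.respectTransparency false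
set_option backward.isDefEq.respectTransparency.types false
set_option synthInstance.maxHeartbeats 80000
set_option linter.style.haveILetI false

noncomputable section

namespace Groth.Agent.MultQuot

open GrpSchLib.AffineHopf

/-- Multiplication after a homomorphism, as a product. -/
theorem whiskerLeft_mul {S : Scheme.{u}} {G N : Over S} [GrpObj G] (n : N ⟶ G) :
    (G ◁ n) ≫ μ[G] = fst G N * (snd G N ≫ n) := by
  rw [Hom.mul_def]
  congr 1

/-- Points with the same image in a quotient differ by a point of the subgroup. -/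
theorem exists_eq_mul {S : Scheme.{u}} {G N Q : Over S} [GrpObj G] {n : N ⟶ G} {q : G ⟶ Q}
    (hq : RedSub.IsQuotient n q) {X : Over S} (a b : X ⟶ G) (h : a ≫ q = b ≫ q) : ∃ m : X ⟶ N, b = a * (m ≫ n) := by
  refine ⟨hq.2.2.2.lift a b h ≫ snd G N, ?_⟩
  have h1 := hq.2.2.2.lift_fst a b h
  refine (hq.2.2.2.lift_snd a b h).symm.trans ?_
  generalize hq.2.2.2.lift a b h = l at h1 ⊢
  rw [whiskerLeft_mul, MonObj.comp_mul, h1, Category.assoc]

/-- Translation by the subgroup does not move the image in a quotient. -/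
theorem mul_comp_quot {S : Scheme.{u}} {G N Q : Over S} [GrpObj G] {n : N ⟶ G} {q : G ⟶ Q}
    (hq : RedSub.IsQuotient n q) {X : Over S} (a : X ⟶ G) (m : X ⟶ N) : (a * (m ≫ n)) ≫ q = a ≫ q := by
  have h := congrArg (lift a m ≫ ·) hq.2.2.2.w
  rw [whiskerLeft_mul] at h
  rw [← Category.assoc, ← Category.assoc, lift_fst, MonObj.comp_mul, lift_fst, lift_snd_assoc] at h
  exact h.symm

/-- The cover of a quotient. -/
theorem covers_quot {S : Scheme.{u}} {G N Q : Over S} [GrpObj G] {n : N ⟶ G} {q : G ⟶ Q}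
    (hq : RedSub.IsQuotient n q) : FpqcDescLib.Covers q.left :=
  haveI := hq.1
  haveI := hq.2.1
  haveI := hq.2.2.1
  FpqcDescLib.covers_of_isCovering (FpqcDescLib.isCovering_of_lfp q.left)

/-- Quotients are unique. -/
theorem nonempty_quot_iso {S : Scheme.{u}} {G N Q Q' : Over S} [GrpObj G] {n : N ⟶ G} {q : G ⟶ Q} {q' : G ⟶ Q'}
    (hq : RedSub.IsQuotient n q) (hq' : RedSub.IsQuotient n q') : Nonempty (Q ≅ Q') := by
  obtain ⟨a, ha, -⟩ := (covers_quot hq).over_desc q' fun T x y e => by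
    obtain ⟨m, rfl⟩ := exists_eq_mul hq x y e
    exact (mul_comp_quot hq' x m).symm
  obtain ⟨b, hb, -⟩ := (covers_quot hq').over_desc q fun T x y e => by
    obtain ⟨m, rfl⟩ := exists_eq_mul hq' x y e
    exact (mul_comp_quot hq x m).symm
  haveI := (covers_quot hq).over_epi
  haveI := (covers_quot hq').over_epi
  exact ⟨⟨a, b, by rw [← cancel_epi q, reassoc_of% ha, hb, Category.comp_id],
    by rw [← cancel_epi q', reassoc_of% hb, ha, Category.comp_id]⟩⟩

variable {k : Type u} [Field k]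

/-- Lifts through a closed immersion glue. -/
theorem exists_lift_of_cover {X Y Z : Scheme.{u}} (m : Z ⟶ Y) [IsClosedImmersion m] (t : X ⟶ Y) (U : X.OpenCover)
    (h : ∀ i, ∃ l, l ≫ m = U.f i ≫ t) : ∃ g, g ≫ m = t := by
  choose l hl using h
  refine ⟨U.glueMorphisms l fun i i' => ?_, U.hom_ext _ _ fun i => ?_⟩
  · rw [← cancel_mono m, Category.assoc, Category.assoc, hl, hl, pullback.condition_assoc]
  · rw [← Category.assoc, Scheme.Cover.ι_glueMorphisms, hl]

/-- Points killed by `n` lie in the torsion subgroup. -/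
theorem exists_fac_torsion {C : Type u} [CommRing C] [HopfAlgebra k C] {X : Over (Spec (CommRingCat.of k))}
    (t : X ⟶ sp k C) {n : ℕ} (ht : t ^ n = 1) :
    ∃ l, l ≫ spMap (Ideal.Quotient.mkₐ k (SGA3b.torsionIdeal k C n)) = t := by
  let mk := spMap (Ideal.Quotient.mkₐ k (SGA3b.torsionIdeal k C n))
  haveI : IsClosedImmersion mk.left := IsClosedImmersion.spec_of_surjective _ Ideal.Quotient.mk_surjective
  have hloc : ∀ i, ∃ l, l ≫ mk.left = X.left.affineCover.f i ≫ t.left := fun i => by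
    obtain ⟨A, hA⟩ : ∃ A : CommRingCat.{u}, X.left.affineCover.X i = Spec A := ⟨_, rfl⟩
    obtain ⟨c, hc⟩ : ∃ c : Spec A ⟶ X.left, X.left.affineCover.f i = eqToHom hA ≫ c :=
      ⟨eqToHom hA.symm ≫ X.left.affineCover.f i, by simp⟩
    let φ : k →+* A := (Spec.preimage (c ≫ X.hom)).hom
    letI : Algebra k A := φ.toAlgebra
    let c' : sp k A ⟶ X := Over.homMk c (Spec.map_preimage _).symm
    obtain ⟨f, hf⟩ := exists_eq_spMap (c' ≫ t)
    have hle : SGA3b.torsionIdeal k C n ≤ RingHom.ker f := (pow_eq_one_iff f n).mp (by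
      rw [← hf, ← TorusQI.comp_npow, ht, MonObj.comp_one])
    refine ⟨eqToHom hA ≫ (spMap (Ideal.Quotient.liftₐ _ f hle)).left, ?_⟩
    rw [Category.assoc, hc, Category.assoc, ← Over.comp_left, spMap_comp, Ideal.Quotient.liftₐ_comp, ← hf]
    rfl
  obtain ⟨g, hg⟩ := exists_lift_of_cover mk.left t.left X.left.affineCover hloc
  exact ⟨Over.homMk g (by rw [← Over.w mk, reassoc_of% hg, Over.w t]), Over.OverMorphism.ext hg⟩

/-- The finite subgroup and its scheme of homomorphisms. -/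
theorem exists_setup {G H : Over (Spec (CommRingCat.of k))} [GrpObj G] [GrpObj H] [Smooth G.hom] [IsAffine G.left]
    (h : H ⟶ G) [IsMonHom h] [Mono h] (hH : SGA3x.IsMultTypeFT H) :
    ∃ (L : Over (Spec (CommRingCat.of k))) (_ : GrpObj L) (v : L ⟶ G) (n : ℕ) (A : Over (Spec (CommRingCat.of k)))
      (υ : L ⊗ A ⟶ G),
      IsMonHom v ∧ Mono v ∧ SGA3x.IsMultTypeFT L ∧ IsFinite L.hom ∧ AutFam.RepresentsHom L G A υ ∧ IsAffine A.left ∧
      LocallyOfFiniteType A.hom ∧ (∀ (X : Over (Spec (CommRingCat.of k))) (g : X ⟶ G), Comm v g ↔ Comm h g) ∧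
      (∀ (X : Over (Spec (CommRingCat.of k))) (l : X ⟶ L), ∃ t : X ⟶ H, t ^ n = 1 ∧ t ≫ h = l ≫ v) ∧
      (∀ (X : Over (Spec (CommRingCat.of k))) (t : X ⟶ H), t ^ n = 1 → ∃ l : X ⟶ L, l ≫ v = t ≫ h) := by
  haveI : IsAffineHom G.hom := isAffineHom_of_isAffine G.hom
  obtain ⟨C, _, _, hC, ⟨eC⟩⟩ := MultTypeLib.SchemeBridge.exists_hopf_multType H hH
  let e : sp k C ≅ H := (Grp.forget _).mapIso eC
  haveI : IsMonHom e.hom := eC.hom.hom.isMonHom_hom
  haveI : IsMonHom e.inv := eC.inv.hom.isMonHom_hom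
  haveI : Algebra.FiniteType k C := by
    haveI := GrpSchLib.MultTypeLfp.lfp hH
    exact MultTypeExt.finiteType_of_iso e
  let u : sp k C ⟶ G := e.hom ≫ h
  obtain ⟨n, hn, hcomm⟩ := exists_torsion_comm hC u
  haveI : (SGA3b.torsionIdeal k C n).IsHopfIdeal k := MultTypeLib.isHopfIdeal_torsionIdeal hC n
  let J := SGA3b.torsionIdeal k C n
  let mk := spMap (Ideal.Quotient.mkₐ k J)
  haveI : IsMonHom mk := isMonHom_spMap (Bialgebra.Quotient.mkBialgHom (R := k) J)
  haveI : Mono mk := by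
    haveI : IsClosedImmersion mk.left := IsClosedImmersion.spec_of_surjective _ Ideal.Quotient.mk_surjective
    exact Over.mono_of_mono_left _
  haveI := finite_torsion hC n hn
  haveI : IsFinite (sp k (C ⧸ J)).hom :=
    (IsFinite.SpecMap_iff _).mpr (RingHom.finite_algebraMap.mpr inferInstance)
  have hL := isMultTypeFT_torsion hC n hn
  obtain ⟨A', υ', hA', hAs, -⟩ := Groth.Agent.S5246.result (sp k (C ⧸ J)) G hL inferInstance inferInstance
  obtain ⟨A, υ, hA, hAa, hAft, -⟩ := Groth.Agent.S6064.result (sp k (C ⧸ J)) G hL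
  haveI : IsAffine A.left := isAffine_of_isAffineHom A.hom
  refine ⟨sp k (C ⧸ J), inferInstance, mk ≫ u, n, A, υ, inferInstance, mono_comp mk u, hL, inferInstance, hA,
    inferInstance, hAft inferInstance, fun X g => ⟨fun hg => ?_, fun hg => ?_⟩, fun X l => ⟨l ≫ mk ≫ e.hom, ?_, ?_⟩,
    fun X t ht => ?_⟩
  · have h' := (hcomm X g hg).res e.inv
    rwa [Iso.inv_hom_id_assoc] at h'
  · exact (hg.res e.hom).res mk
  · have h1 : (l ≫ mk) ^ n = 1 := by rw [← TorusQI.comp_npow, pow_mk_eq_one, MonObj.comp_one]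
    rw [← Category.assoc, ← TorusQI.npow_comp, h1, MonObj.one_comp]
  · simp only [u, Category.assoc]
  · obtain ⟨l, hl⟩ := exists_fac_torsion (C := C) (t ≫ e.inv) (by
      rw [← TorusQI.npow_comp, ht, MonObj.one_comp])
    refine ⟨l, ?_⟩
    show l ≫ mk ≫ e.hom ≫ h = t ≫ h
    rw [reassoc_of% hl, Iso.inv_hom_id_assoc]

end Groth.Agent.MultQuot
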