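import Groth.Agent.MultQuot.TorsionSub
import Groth.Agent.S5247
import Groth.Prelude.Def_Red2
import Mathlib.AlgebraicGeometry.Noetherian

/-!
# The centraliser of a group of multiplicative type is that of a finite torsion subgroup
-/

universe u

open CategoryTheory MonoidalCategory CartesianMonoidalCategory MonObj AlgebraicGeometry
open scoped TensorProduct

set_option backward.isDefEq.respectTransparency.types false

noncomputable section

namespace Groth.Agent.MultQuot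

open GrpSchLib.AffineHopf

/-- A point centralises a homomorphism. -/
def Comm {S : Scheme.{u}} {H G : Over S} [GrpObj G] (u : H ⟶ G) {X : Over S} (g : X ⟶ G) : Prop :=
  ∀ (X' : Over S) (x : X' ⟶ X) (h : X' ⟶ H), (x ≫ g) * (h ≫ u) = (h ≫ u) * (x ≫ g)

theorem Comm.comp {S : Scheme.{u}} {H G : Over S} [GrpObj G] {u : H ⟶ G} {X Y : Over S} {g : X ⟶ G}
    (h : Comm u g) (y : Y ⟶ X) : Comm u (y ≫ g) := fun X' x a => by
  rw [← Category.assoc]; exact h X' (x ≫ y) a

theorem Comm.res {S : Scheme.{u}} {H H' G : Over S} [GrpObj G] {u : H ⟶ G} {X : Over S} {g : X ⟶ G}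
    (h : Comm u g) (i : H' ⟶ H) : Comm (i ≫ u) g := fun X' x a => by
  rw [← Category.assoc]; exact h X' x (a ≫ i)

variable {k : Type u} [Field k]

/-- Morphisms over a field are determined on spectra of algebras. -/
theorem ext_sp {X Y : Over (Spec (CommRingCat.of k))} {f g : X ⟶ Y}
    (h : ∀ (A : Type u) [CommRing A] [Algebra k A] (x : sp k A ⟶ X), x ≫ f = x ≫ g) : f = g := by
  refine Over.OverMorphism.ext (X.left.affineCover.hom_ext _ _ fun i => ?_)
  obtain ⟨A, hA⟩ : ∃ A : CommRingCat.{u}, X.left.affineCover.X i = Spec A := ⟨_, rfl⟩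
  obtain ⟨c, hc⟩ : ∃ c : Spec A ⟶ X.left, X.left.affineCover.f i = eqToHom hA ≫ c :=
    ⟨eqToHom hA.symm ≫ X.left.affineCover.f i, by simp⟩
  rw [hc, Category.assoc, Category.assoc]
  congr 1
  let φ : k →+* A := (Spec.preimage (c ≫ X.hom)).hom
  letI : Algebra k A := φ.toAlgebra
  exact congrArg Over.Hom.left (h A (Over.homMk c (Spec.map_preimage _).symm : sp k A ⟶ X))

variable {C : Type u} [CommRing C] [HopfAlgebra k C] [Algebra.FiniteType k C]

local notation "Jt" => SGA3b.torsionIdeal k C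

/-- Torsion ideals are antitone for divisibility. -/
theorem torsion_le_mul (m n : ℕ) : Jt (m * n) ≤ Jt m := by
  have h : spMap (Ideal.Quotient.mkₐ k (Jt m)) ^ (m * n) = (1 : sp k (C ⧸ Jt m) ⟶ sp k C) := by
    rw [pow_mul, pow_mk_eq_one, one_pow]
  exact fun c hc => Ideal.Quotient.eq_zero_iff_mem.mp ((pow_eq_one_iff _ _).mp h hc)

/-- The inclusion between torsion subgroups. -/
theorem exists_incl {m n : ℕ} (h : Jt n ≤ Jt m) :
    ∃ i : sp k (C ⧸ Jt m) ⟶ sp k (C ⧸ Jt n), i ≫ spMap (Ideal.Quotient.mkₐ k (Jt n)) = spMap (Ideal.Quotient.mkₐ k (Jt m)) :=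
  ⟨spMap (Ideal.Quotient.factorₐ k h), by rw [spMap_comp]; rfl⟩

set_option maxHeartbeats 1000000 in
/-- The centraliser is the centraliser of a torsion subgroup. -/
theorem exists_torsion_comm (hC : SGA3b.IsMultType k C) {G : Over (Spec (CommRingCat.of k))} [GrpObj G]
    [Smooth G.hom] [IsAffine G.left] (u : sp k C ⟶ G) [IsMonHom u] :
    ∃ n, 0 < n ∧ ∀ (X : Over (Spec (CommRingCat.of k))) (g : X ⟶ G),
      Comm (spMap (Ideal.Quotient.mkₐ k (Jt n)) ≫ u) g → Comm u g := by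
  classical
  haveI : IsAffineHom G.hom := isAffineHom_of_isAffine G.hom
  haveI hHopf : ∀ n, (Jt n).IsHopfIdeal k := fun n => MultTypeLib.isHopfIdeal_torsionIdeal hC n
  let v := fun n : ℕ => spMap (Ideal.Quotient.mkₐ k (Jt n)) ≫ u
  haveI : ∀ n, IsMonHom (v n) := fun n => by
    haveI : IsMonHom (spMap (Ideal.Quotient.mkₐ k (Jt n))) :=
      isMonHom_spMap (Bialgebra.Quotient.mkBialgHom (R := k) (Jt n))
    exact inferInstanceAs (IsMonHom (spMap (Ideal.Quotient.mkₐ k (Jt n)) ≫ u))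
  choose Z iZ j hj hjc _hjs using fun n : {n : ℕ // 0 < n} =>
    Groth.Agent.S5247.result (sp k (C ⧸ Jt n.1)) G (isMultTypeFT_torsion hC n.1 n.2) ‹_› ‹_› (v n.1)
  haveI : ∀ n, IsClosedImmersion (j n).left := hjc
  haveI : IsLocallyNoetherian G.left := LocallyOfFiniteType.isLocallyNoetherian G.hom
  haveI : IsNoetherianRing Γ(G.left, ⊤) :=
    IsLocallyNoetherian.component_noetherian (X := G.left) ⟨⊤, isAffineOpen_top _⟩
  let I : {n : ℕ // 0 < n} → Ideal Γ(G.left, ⊤) := fun n => RingHom.ker (j n).left.appTop.hom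
  obtain ⟨_, ⟨n₀, rfl⟩, hmax⟩ := set_has_maximal_iff_noetherian.mpr ‹IsNoetherianRing Γ(G.left, ⊤)› (Set.range I)
    ⟨_, ⟨⟨1, one_pos⟩, rfl⟩⟩
  have hcomm : ∀ n (X : Over (Spec (CommRingCat.of k))) (g : X ⟶ G), Comm (v n.1) g ↔ ∃ z : X ⟶ Z n, z ≫ j n = g :=
    fun n X g => ((hj n).2.2 X g).symm
  have hstab : ∀ m, 0 < m → Comm (v m) (j n₀) := by
    intro m hm
    let N : {n : ℕ // 0 < n} := ⟨n₀.1 * m, Nat.mul_pos n₀.2 hm⟩
    obtain ⟨i₁, hi₁⟩ := exists_incl (torsion_le_mul (C := C) (k := k) n₀.1 m)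
    obtain ⟨i₂, hi₂⟩ := exists_incl (show Jt N.1 ≤ Jt m by
      show Jt (n₀.1 * m) ≤ Jt m
      rw [mul_comm]; exact torsion_le_mul m n₀.1)
    have hN : Comm (v N.1) (j N) := (hcomm N _ _).mpr ⟨𝟙 _, Category.id_comp _⟩
    obtain ⟨z, hz⟩ := (hcomm n₀ _ (j N)).mp (by
      have h := hN.res i₁
      rwa [← Category.assoc, hi₁] at h)
    have hle : I n₀ ≤ I N := fun x hx => by
      show (j N).left.appTop.hom x = 0
      rw [show (j N).left = z.left ≫ (j n₀).left from (congrArg Over.Hom.left hz).symm, Scheme.Hom.comp_appTop,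
        CommRingCat.hom_comp, RingHom.comp_apply, RingHom.mem_ker.mp hx, map_zero]
    have heq : I n₀ = I N := (eq_or_lt_of_le hle).resolve_right (hmax _ ⟨N, rfl⟩)
    have hker : (j N).left.ker ≤ (j n₀).left.ker := Scheme.IdealSheafData.le_of_isAffine (by
      rw [Scheme.Hom.ker_apply, Scheme.Hom.ker_apply]
      exact heq.ge)
    have hl : IsClosedImmersion.lift (j N).left (j n₀).left hker ≫ (j N).left = (j n₀).left :=
      IsClosedImmersion.lift_fac _ _ _
    let l : Z n₀ ⟶ Z N := Over.homMk (IsClosedImmersion.lift (j N).left (j n₀).left hker) (by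
      rw [← Over.w (j N), reassoc_of% hl, Over.w (j n₀)])
    have h := (hN.comp l).res i₂
    rw [← Category.assoc, hi₂, show l ≫ j N = j n₀ from Over.OverMorphism.ext hl] at h
    exact h
  refine ⟨n₀.1, n₀.2, fun X g hg => ?_⟩
  obtain ⟨z, rfl⟩ := (hcomm n₀ X g).mp hg
  refine Comm.comp ?_ z
  intro X' x h
  refine ext_sp fun A _ _ a => ?_
  rw [MonObj.comp_mul, MonObj.comp_mul, ← Category.assoc a x, ← Category.assoc a h]
  obtain ⟨c, hc⟩ := exists_eq_spMap (a ≫ h)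
  rw [hc]
  generalize a ≫ x = y
  let h₀ : sp k (C ⊗[k] A) ⟶ sp k C := spMap Algebra.TensorProduct.includeLeft
  let y₀ : sp k (C ⊗[k] A) ⟶ Z n₀ := spMap Algebra.TensorProduct.includeRight ≫ y
  suffices key : (y₀ ≫ j n₀) * (h₀ ≫ u) = (h₀ ≫ u) * (y₀ ≫ j n₀) by
    let l := spMap (Algebra.TensorProduct.lift c (AlgHom.id k A) fun _ _ => Commute.all _ _)
    have e1 : l ≫ h₀ = spMap c := by
      rw [spMap_comp, Algebra.TensorProduct.lift_comp_includeLeft]
    have e2 : l ≫ y₀ = y := by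
      rw [← Category.assoc, spMap_comp, show (Algebra.TensorProduct.lift c (AlgHom.id k A) fun _ _ => Commute.all _ _).comp
        Algebra.TensorProduct.includeRight = AlgHom.id k A from AlgHom.ext fun t => by simp, spMap_id, Category.id_comp]
    have := congrArg (l ≫ ·) key
    simp only [MonObj.comp_mul, ← Category.assoc, e1, e2] at this
    exact this
  obtain ⟨B, _, _, ⟨eB⟩⟩ := exists_hopf G
  let e : sp k B ≅ G := (Grp.forget _).mapIso eB
  rw [← cancel_mono e.inv]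
  obtain ⟨α₁, hα₁⟩ := exists_eq_spMap (((y₀ ≫ j n₀) * (h₀ ≫ u)) ≫ e.inv)
  obtain ⟨α₂, hα₂⟩ := exists_eq_spMap (((h₀ ≫ u) * (y₀ ≫ j n₀)) ≫ e.inv)
  rw [hα₁, hα₂]
  congr 1
  refine AlgHom.ext fun bb => sub_eq_zero.mp (eq_zero_of_torsion hC _ fun m hm => ?_)
  let π := Algebra.TensorProduct.map (Ideal.Quotient.mkₐ k (Jt m)) (AlgHom.id k A)
  have hπ : spMap π ≫ h₀ = spMap (Algebra.TensorProduct.includeLeft : (C ⧸ Jt m) →ₐ[k] (C ⧸ Jt m) ⊗[k] A) ≫
      spMap (Ideal.Quotient.mkₐ k (Jt m)) := by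
    rw [spMap_comp, spMap_comp, Algebra.TensorProduct.map_comp_includeLeft]
  have h2 : spMap π ≫ ((y₀ ≫ j n₀) * (h₀ ≫ u)) = spMap π ≫ ((h₀ ≫ u) * (y₀ ≫ j n₀)) := by
    have h1 := hstab m hm _ (spMap π ≫ y₀)
      (spMap (Algebra.TensorProduct.includeLeft : (C ⧸ Jt m) →ₐ[k] (C ⧸ Jt m) ⊗[k] A))
    rw [MonObj.comp_mul, MonObj.comp_mul, ← Category.assoc _ h₀ u, hπ]
    simp only [v, Category.assoc] at h1 ⊢
    exact h1
  have h3 := congrArg (· ≫ e.inv) h2
  simp only [Category.assoc, hα₁, hα₂, spMap_comp] at h3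
  rw [map_sub, sub_eq_zero]
  exact DFunLike.congr_fun (spMap_injective h3) bb

end Groth.Agent.MultQuot
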