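import Groth.Agent.MultQuot.CentQuot
import Groth.Agent.S5263
import Groth.Agent.AlgSpLib.Descent2
import Groth.Agent.ChevAffine.Main
import Groth.Agent.FpqcDescLib.Group
import Groth.Agent.EtFound.Descent

/-!
# Affineness of the quotients by the centraliser and the normaliser
-/

universe u

open CategoryTheory CategoryTheory.Limits MonoidalCategory CartesianMonoidalCategory MonObj AlgebraicGeometry
open TopologicalSpace

set_option backward.isDefEq.respectTransparency false
set_option backward.isDefEq.respectTransparency.types false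
set_option synthInstance.maxHeartbeats 80000
set_option linter.style.haveILetI false

noncomputable section

namespace Groth.Agent.MultQuot

variable {k : Type u} [Field k] {G H : Over (Spec (CommRingCat.of k))} [GrpObj G] [GrpObj H] [Smooth G.hom]
  [IsAffine G.left]

/-- The orbit of the finite subgroup in its scheme of homomorphisms. -/
structure OrbitData {L A : Over (Spec (CommRingCat.of k))} [GrpObj L] (υ : L ⊗ A ⟶ G) (v : L ⟶ G) where
  /-- the action -/
  act : G ⊗ A ⟶ A
  hact : ∀ (X : Over (Spec (CommRingCat.of k))) (l : X ⟶ L) (g : X ⟶ G) (a : X ⟶ A),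
    lift l (lift g a ≫ act) ≫ υ = g * (lift l a ≫ υ) * g⁻¹
  /-- the point -/
  av : 𝟙_ (Over (Spec (CommRingCat.of k))) ⟶ A
  hav : ∀ (X : Over (Spec (CommRingCat.of k))) (l : X ⟶ L), lift l (toUnit X ≫ av) ≫ υ = l ≫ v
  /-- the orbit -/
  O : Over (Spec (CommRingCat.of k))
  /-- the inclusion -/
  inc : O ⟶ A
  /-- the orbit map -/
  o : G ⟶ O
  o_inc : o ≫ inc = orbit act av
  mono : Mono inc
  openImm : IsOpenImmersion inc.left
  affine : IsAffine O.left
  smooth : Smooth o.left
  surj : Surjective o.left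

/-- The orbit exists. -/
theorem nonempty_orbitData {L A : Over (Spec (CommRingCat.of k))} [GrpObj L] {υ : L ⊗ A ⟶ G} {v : L ⟶ G} [IsMonHom v]
    [IsAffine A.left] (hA : AutFam.RepresentsHom L G A υ) (hL : SGA3x.IsMultTypeFT L) : Nonempty (OrbitData υ v) := by
  haveI : IsAffineHom G.hom := isAffineHom_of_isAffine G.hom
  haveI : Subsingleton ↥(Spec (CommRingCat.of k)) := inferInstanceAs (Subsingleton (PrimeSpectrum k))
  obtain ⟨act, hact⟩ := exists_act hA
  obtain ⟨av, hav, -⟩ := hA.2 (𝟙_ _) (fst L _ ≫ v) fun X g₁ g₂ t => by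
    simp only [lift_fst_assoc, MonObj.mul_comp]
  have hav' : ∀ (X : Over (Spec (CommRingCat.of k))) (l : X ⟶ L), lift l (toUnit X ≫ av) ≫ υ = l ≫ v := fun X l => by
    have h := congrArg (lift l (toUnit X) ≫ ·) hav
    simpa only [lift_whiskerLeft_assoc, lift_fst_assoc] using h
  let ω := orbit act av
  haveI : Smooth ω.left := smooth_orbit hA hact hL av
  haveI : UniversallyOpen ω.left := inferInstance
  let U : A.left.Opens := ⟨Set.range ω.left, ω.left.isOpenMap.isOpen_range⟩
  have hrange : Set.range U.ι = Set.range ω.left := U.range_ι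
  haveI : IsClosedImmersion U.ι := IsClosedImmersion.of_isPreimmersion _ (by
    rw [hrange]; exact isClosed_range_orbit hA hact hL av)
  let O : Over (Spec (CommRingCat.of k)) := Over.mk (U.ι ≫ A.hom)
  haveI : IsAffine O.left := isAffine_of_isAffineHom U.ι
  let inc : O ⟶ A := Over.homMk U.ι rfl
  let o₀ := IsOpenImmersion.lift U.ι ω.left hrange.ge
  have ho₀ : o₀ ≫ U.ι = ω.left := IsOpenImmersion.lift_fac _ _ _
  let o : G ⟶ O := Over.homMk o₀ (by
    show o₀ ≫ U.ι ≫ A.hom = G.hom
    rw [reassoc_of% ho₀, Over.w ω])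
  refine ⟨⟨act, hact, av, hav', O, inc, o, Over.OverMorphism.ext ho₀, Over.mono_of_mono_left _,
    inferInstanceAs (IsOpenImmersion U.ι), ‹_›, ?_, ⟨fun x => ?_⟩⟩⟩
  · show Smooth o₀
    haveI : Smooth (o₀ ≫ U.ι) := by rw [ho₀]; infer_instance
    exact MorphismProperty.of_postcomp (W := @Smooth) (W' := @IsOpenImmersion) o₀ U.ι inferInstance this
  · obtain ⟨g, hg⟩ : U.ι x ∈ Set.range ω.left := hrange.le ⟨x, rfl⟩
    exact ⟨g, U.ι.isOpenEmbedding.injective (by
      exact (Scheme.Hom.comp_apply o₀ U.ι g).symm.trans ((congrArg (fun f : G.left ⟶ A.left => f g) ho₀).trans hg))⟩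

variable {L A : Over (Spec (CommRingCat.of k))} [GrpObj L] {υ : L ⊗ A ⟶ G} {v : L ⟶ G} {h : H ⟶ G}
  (D : OrbitData υ v) (hA : AutFam.RepresentsHom L G A υ)

omit [Smooth G.hom] [IsAffine G.left] in
theorem OrbitData.comp_o {X : Over (Spec (CommRingCat.of k))} (g : X ⟶ G) :
    g ≫ D.o ≫ D.inc = lift g (toUnit X ≫ D.av) ≫ D.act := by
  rw [D.o_inc, comp_orbit]

include hA in
/-- The orbit is the quotient by the centraliser. -/
theorem isQuotient_orbit (hcomm : ∀ (X : Over (Spec (CommRingCat.of k))) (g : X ⟶ G), Comm v g ↔ Comm h g)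
    {C : Over (Spec (CommRingCat.of k))} [GrpObj C] {c : C ⟶ G} (hC : Red.IsCentralizerOf h c) :
    RedSub.IsQuotient c D.o := by
  haveI := D.smooth
  haveI := D.mono
  haveI := hC.2.1
  have hiff : ∀ {X : Over (Spec (CommRingCat.of k))} (a b : X ⟶ G), a ≫ D.o = b ≫ D.o ↔ ∃ z : X ⟶ C, z ≫ c = a⁻¹ * b :=
    fun a b => by
      rw [hC.2.2, ← cancel_mono D.inc, Category.assoc, Category.assoc, D.comp_o, D.comp_o,
        act_eq_iff hA D.hact v D.av D.hav, hcomm]
      rfl
  refine ⟨D.surj, inferInstance, inferInstance, ?_⟩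
  have hw : fst G C ≫ D.o = ((G ◁ c) ≫ μ[G]) ≫ D.o :=
    (hiff _ _).mpr ⟨snd G C, by rw [whiskerLeft_mul, inv_mul_cancel_left]⟩
  choose z hz using fun s : PullbackCone D.o D.o => (hiff s.fst s.snd).mp s.condition
  refine ⟨⟨hw⟩, ⟨PullbackCone.IsLimit.mk hw (fun s => lift s.fst (z s)) (fun s => lift_fst _ _) (fun s => ?_)
    fun s m hm₁ hm₂ => ?_⟩⟩
  · rw [whiskerLeft_mul, MonObj.comp_mul, lift_fst, lift_snd_assoc, hz, mul_inv_cancel_left]
  · apply CartesianMonoidalCategory.hom_ext
    · rw [lift_fst, hm₁]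
    · rw [lift_snd, ← cancel_mono c, hz]
      rw [whiskerLeft_mul, MonObj.comp_mul, hm₁] at hm₂
      rw [← hm₂, inv_mul_cancel_left, Category.assoc]

variable [IsMonHom h] [Mono h] [IsMonHom v] [Mono v]

include hA in
/-- The normaliser moves the point in a finite set. -/
theorem finite_orbit_normalizer (hL : SGA3x.IsMultTypeFT L) [IsFinite L.hom] {m : ℕ}
    (hl : ∀ (X : Over (Spec (CommRingCat.of k))) (l : X ⟶ L), ∃ t : X ⟶ H, t ^ m = 1 ∧ t ≫ h = l ≫ v)
    (hl' : ∀ (X : Over (Spec (CommRingCat.of k))) (t : X ⟶ H), t ^ m = 1 → ∃ l : X ⟶ L, l ≫ v = t ≫ h)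
    {N : Over (Spec (CommRingCat.of k))} [GrpObj N] {n : N ⟶ G} (hN : Red.IsNormalizerOf h n) :
    (Set.range (n ≫ D.o ≫ D.inc).left).Finite := by
  obtain ⟨E, ε, hE, hEfin, -⟩ := Groth.Agent.S5263.result L L hL hL
  let gN : L ⊗ N ⟶ G := snd L N ≫ n
  obtain ⟨θ, hθ⟩ : ∃ θ : L ⊗ N ⟶ L, θ ≫ v = gN * (fst L N ≫ v) * gN⁻¹ := by
    obtain ⟨t, ht, ht'⟩ := hl _ (fst L N)
    obtain ⟨⟨t', ht''⟩, -⟩ := (hN.2.2 N n).mp ⟨𝟙 N, Category.id_comp n⟩ _ (snd L N) t
    obtain ⟨l', hl''⟩ := hl' _ t' (by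
      rw [← cancel_mono h, TorusQI.npow_comp, ← ht'', conj_pow, ← TorusQI.npow_comp, ht, MonObj.one_comp,
        _root_.mul_one, mul_inv_cancel])
    exact ⟨l', by rw [hl'', ← ht'', ht']⟩
  have hθf : AutFam.IsHomFamily L L θ := fun X g₁ g₂ t => by
    rw [← cancel_mono v, MonObj.mul_comp]
    simp only [Category.assoc, hθ, gN, MonObj.comp_mul, GrpObj.comp_inv, lift_snd_assoc, lift_fst_assoc,
      MonObj.mul_comp]
    group
  obtain ⟨a, ha, -⟩ := hE.2 N θ hθf
  obtain ⟨β, hβ, -⟩ := hA.2 E (ε ≫ v) fun X g₁ g₂ t => by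
    rw [← Category.assoc, hE.1 X g₁ g₂ t, MonObj.mul_comp, Category.assoc, Category.assoc]
  have hfac : n ≫ D.o ≫ D.inc = a ≫ β := by
    refine ext_pt hA fun X' x l => ?_
    have e1 : lift l (x ≫ a) ≫ (L ◁ β) ≫ υ = lift l (x ≫ a) ≫ ε ≫ v := congrArg (lift l (x ≫ a) ≫ ·) hβ
    have e2 : lift l x ≫ (L ◁ a) ≫ ε = lift l x ≫ θ := congrArg (lift l x ≫ ·) ha
    rw [lift_whiskerLeft_assoc] at e1 e2
    rw [D.comp_o, comp_lift_assoc, D.hact, ← Category.assoc x, toUnit_unique (x ≫ toUnit N) (toUnit X'), D.hav,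
      ← Category.assoc x a, e1, ← Category.assoc _ ε, e2, Category.assoc, hθ]
    simp [gN, MonObj.comp_mul, GrpObj.comp_inv]
  haveI := hEfin
  have hfin : (Set.univ : Set E.left).Finite :=
    (E.hom.finite_preimage_singleton (IsLocalRing.closedPoint k)).subset fun x _ =>
      Subsingleton.elim (α := PrimeSpectrum k) _ _
  refine (hfin.image β.left).subset ?_
  rw [hfac]
  rintro _ ⟨x, rfl⟩
  exact ⟨a.left x, trivial, (Scheme.Hom.comp_apply _ _ x).symm⟩

set_option maxHeartbeats 1000000 in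
include D hA in
/-- The quotient by the normaliser is affine. -/
theorem isAffine_quot_normalizer (hcomm : ∀ (X : Over (Spec (CommRingCat.of k))) (g : X ⟶ G), Comm v g ↔ Comm h g)
    (hL : SGA3x.IsMultTypeFT L) [IsFinite L.hom] [LocallyOfFiniteType A.hom] {e : ℕ}
    (hl : ∀ (X : Over (Spec (CommRingCat.of k))) (l : X ⟶ L), ∃ t : X ⟶ H, t ^ e = 1 ∧ t ≫ h = l ≫ v)
    (hl' : ∀ (X : Over (Spec (CommRingCat.of k))) (t : X ⟶ H), t ^ e = 1 → ∃ l : X ⟶ L, l ≫ v = t ≫ h)
    {C : Over (Spec (CommRingCat.of k))} [GrpObj C] {c : C ⟶ G} (hC : Red.IsCentralizerOf h c)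
    {N Q : Over (Spec (CommRingCat.of k))} [GrpObj N] {n : N ⟶ G} (hN : Red.IsNormalizerOf h n)
    (q : G ⟶ Q) (hq : RedSub.IsQuotient n q) : IsAffine Q.left := by
  haveI := D.mono
  haveI := D.openImm
  haveI := D.affine
  haveI := D.smooth
  haveI := D.surj
  have hqC := isQuotient_orbit D hA hcomm hC
  -- the map between the quotients
  obtain ⟨π, hπ, -⟩ := (covers_quot hqC).over_desc q fun T a b hab => by
    obtain ⟨z, rfl⟩ := exists_eq_mul hqC a b hab
    obtain ⟨z', hz'⟩ := (hN.2.2 C c).mpr fun X' x t => by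
      have hc : Comm h c := (hC.2.2 C c).mp ⟨𝟙 C, Category.id_comp c⟩
      refine ⟨⟨t, by rw [hc X' x t, mul_inv_cancel_right]⟩, t, ?_⟩
      rw [_root_.mul_assoc, ← hc X' x t, inv_mul_cancel_left]
    rw [← hz', ← Category.assoc z z' n, mul_comp_quot hq]
  let qe : 𝟙_ (Over (Spec (CommRingCat.of k))) ⟶ Q := η[G] ≫ q
  have hqe : ∀ {X : Over (Spec (CommRingCat.of k))}, toUnit X ≫ qe = (1 : X ⟶ G) ≫ q := fun {X} => by
    rw [Hom.one_def, Category.assoc]
  -- the fibre
  let F := pullback π qe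
  let i : F ⟶ D.O := pullback.fst π qe
  have hi : i ≫ π = (1 : F ⟶ G) ≫ q := by
    rw [← hqe, toUnit_unique (toUnit F) (pullback.snd π qe)]
    exact pullback.condition
  haveI : IsImmersion qe.left := by
    haveI : IsImmersion (qe.left ≫ Q.hom) := by rw [Over.w qe]; exact inferInstanceAs (IsImmersion (𝟙 _))
    exact IsImmersion.of_comp qe.left Q.hom
  haveI : IsImmersion i.left :=
    MorphismProperty.of_isPullback ((IsPullback.of_hasPullback π qe).map (Over.forget _)).flip ‹IsImmersion qe.left›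
  let B := pullback D.o i
  let p : B ⟶ F := pullback.snd D.o i
  let b : B ⟶ G := pullback.fst D.o i
  have hbp : b ≫ D.o = p ≫ i := pullback.condition
  have sqB : IsPullback b.left p.left D.o.left i.left := (IsPullback.of_hasPullback D.o i).map (Over.forget _)
  haveI : Surjective p.left := MorphismProperty.of_isPullback sqB D.surj
  have hp : FpqcDescLib.Covers p.left := (covers_quot hqC).pullback i.left p.left b.left sqB.flip
  obtain ⟨w, hw⟩ := exists_eq_mul hq 1 b (by
    have h1 : b ≫ q = p ≫ (1 : F ⟶ G) ≫ q := by rw [← hi, ← reassoc_of% hbp, hπ]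
    rw [h1, ← Category.assoc, MonObj.comp_one])
  rw [_root_.one_mul] at hw
  haveI : LocallyOfFiniteType F.hom := by
    rw [← Over.w i, ← Over.w D.inc]
    infer_instance
  have hFfin : (Set.univ : Set F.left).Finite := by
    refine ((finite_orbit_normalizer D hA hL hl hl' hN).preimage
      (f := fun x => D.inc.left (i.left x)) ?_).subset fun x _ => ?_
    · exact ((D.inc.left.isOpenEmbedding.injective).comp i.left.isEmbedding.injective).injOn
    · obtain ⟨y, rfl⟩ := p.left.surjective x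
      refine ⟨w.left y, ?_⟩
      have h1 : (w ≫ n ≫ D.o ≫ D.inc).left = (p ≫ i ≫ D.inc).left := by
        rw [← Category.assoc, ← hw, reassoc_of% hbp]
      exact congrArg (fun g : B.left ⟶ A.left => g y) h1
  haveI : Finite F.left := Set.finite_univ_iff.mp hFfin
  haveI : QuasiCompact F.hom := quasiCompact_iff_compactSpace F.hom |>.mpr inferInstance
  haveI : LocallyQuasiFinite F.hom :=
    LocallyQuasiFinite.of_finite_preimage_singleton _ fun x => Set.toFinite _
  haveI : IsFinite F.hom := IsFinite.of_locallyQuasiFinite F.hom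
  -- the action on the orbit
  obtain ⟨actO, hactO⟩ : ∃ actO : G ⊗ D.O ⟶ D.O, actO ≫ D.inc = (G ◁ D.inc) ≫ D.act := by
    have hrange : Set.range ((G ◁ D.inc) ≫ D.act).left ⊆ Set.range D.inc.left := by
      rintro _ ⟨x, rfl⟩
      haveI : Surjective (G ◁ D.o).left :=
        MorphismProperty.of_isPullback ((HomRepLib.isPullback_whiskerLeft G D.o).map (Over.forget _)).flip D.surj
      obtain ⟨y, rfl⟩ := (G ◁ D.o).left.surjective x
      refine ⟨((fst G G * snd G G) ≫ D.o).left y, ?_⟩
      have h1 : (G ◁ D.o) ≫ (G ◁ D.inc) ≫ D.act = ((fst G G * snd G G) ≫ D.o) ≫ D.inc := by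
        rw [Category.assoc, D.comp_o, ← act_mul hA D.hact, ← D.comp_o, ← MonoidalCategory.whiskerLeft_comp_assoc]
        congr 1
      exact congrArg (fun g : G ⊗ G ⟶ A => g.left y) h1.symm
    have hl₀ := IsOpenImmersion.lift_fac D.inc.left _ hrange
    exact ⟨Over.homMk (IsOpenImmersion.lift D.inc.left _ hrange) (by
      rw [← Over.w D.inc, reassoc_of% hl₀, Over.w]), Over.OverMorphism.ext hl₀⟩
  have hactO' : ∀ {X : Over (Spec (CommRingCat.of k))} (g : X ⟶ G) (x : X ⟶ D.O),
      (lift g x ≫ actO) ≫ D.inc = lift g (x ≫ D.inc) ≫ D.act := fun g x => by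
    rw [Category.assoc, hactO, lift_whiskerLeft_assoc]
  have hactOo : ∀ {X : Over (Spec (CommRingCat.of k))} (g y : X ⟶ G), lift g (y ≫ D.o) ≫ actO = (g * y) ≫ D.o :=
    fun g y => by
      rw [← cancel_mono D.inc, hactO', Category.assoc, Category.assoc, D.comp_o, D.comp_o, act_mul hA D.hact]
  -- the trivialisation
  let P := pullback q π
  haveI : Epi (G ◁ p) := (HomRepLib.covers_whiskerLeft G hp).over_epi
  let κ : G ⊗ F ⟶ P := pullback.lift (fst G F) ((G ◁ i) ≫ actO) (by
    rw [← cancel_epi (G ◁ p)]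
    have e1 : (G ◁ p) ≫ (G ◁ i) ≫ actO = lift (fst G B) ((snd G B ≫ b) ≫ D.o) ≫ actO := by
      rw [← MonoidalCategory.whiskerLeft_comp_assoc, ← hbp, Category.assoc]
      congr 1
    rw [whiskerLeft_fst_assoc, Category.assoc, reassoc_of% e1, ← Category.assoc, ← Category.assoc, hactOo,
      Category.assoc, hπ, hw, ← Category.assoc, mul_comp_quot hq])
  let z : P ⟶ F := pullback.lift (lift (pullback.fst q π)⁻¹ (pullback.snd q π) ≫ actO) (toUnit P) (by
    let r := pullback.fst (pullback.snd q π) D.o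
    let y := pullback.snd (pullback.snd q π) D.o
    have hr : r ≫ pullback.snd q π = y ≫ D.o := pullback.condition
    have hr' : FpqcDescLib.Covers r.left := (covers_quot hqC).over_pullback (pullback.snd q π) r y
      (IsPullback.of_hasPullback _ _)
    haveI := hr'.over_epi
    rw [← cancel_epi r]
    have e1 : r ≫ lift (pullback.fst q π)⁻¹ (pullback.snd q π) ≫ actO = ((r ≫ pullback.fst q π)⁻¹ * y) ≫ D.o := by
      rw [comp_lift_assoc, hr, GrpObj.comp_inv, hactOo]
    obtain ⟨w', hw'⟩ := exists_eq_mul hq (r ≫ pullback.fst q π) y (by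
      rw [Category.assoc, pullback.condition, reassoc_of% hr, hπ])
    rw [Category.assoc, reassoc_of% e1, hπ, hw', inv_mul_cancel_left, hqe, ← Category.assoc r, MonObj.comp_one]
    exact (congrArg (· ≫ q) (_root_.one_mul (w' ≫ n)).symm).trans (mul_comp_quot hq 1 w'))
  let κ' : P ⟶ G ⊗ F := lift (pullback.fst q π) z
  have hκ : κ' ≫ κ = 𝟙 P := by
    apply pullback.hom_ext
    · simp [κ, κ']
    · rw [Category.assoc, pullback.lift_snd, Category.id_comp, lift_whiskerLeft_assoc,
        show z ≫ i = lift (pullback.fst q π)⁻¹ (pullback.snd q π) ≫ actO from pullback.lift_fst _ _ _,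
        ← cancel_mono D.inc, hactO', hactO', act_mul hA D.hact, mul_inv_cancel, act_one hA D.hact]
  have hκ' : κ ≫ κ' = 𝟙 (G ⊗ F) := by
    apply CartesianMonoidalCategory.hom_ext
    · rw [Category.assoc, lift_fst, pullback.lift_fst, Category.id_comp]
    · rw [Category.assoc, lift_snd, Category.id_comp]
      apply pullback.hom_ext
      · rw [Category.assoc, pullback.lift_fst, comp_lift_assoc, GrpObj.comp_inv, pullback.lift_fst, pullback.lift_snd,
          ← cancel_mono D.inc, hactO', Category.assoc (G ◁ i) actO, hactO,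
          ← Category.id_comp ((G ◁ i) ≫ (G ◁ D.inc) ≫ D.act), ← lift_fst_snd, lift_whiskerLeft_assoc,
          lift_whiskerLeft_assoc, act_mul hA D.hact, inv_mul_cancel, act_one hA D.hact, Category.assoc]
      · rw [Category.assoc, pullback.lift_snd]
        exact toUnit_unique _ _
  haveI : IsFinite (pullback.fst q π).left := by
    haveI : IsIso κ' := ⟨κ, hκ, hκ'⟩
    haveI : IsIso κ'.left := inferInstanceAs (IsIso ((Over.forget _).map κ'))
    haveI : IsFinite (fst G F).left := MorphismProperty.pullback_fst (P := @IsFinite) G.hom F.hom ‹IsFinite F.hom›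
    rw [show pullback.fst q π = κ' ≫ fst G F from (lift_fst _ _).symm, Over.comp_left]
    exact MorphismProperty.comp_mem @IsFinite _ _ inferInstance ‹_›
  haveI := EtFound.fpqc_isFinite.{u}
  haveI : IsFinite π.left :=
    (covers_quot hq).descends @IsFinite π.left (pullback.fst q π).left (pullback.snd q π).left
      ((IsPullback.of_hasPullback q π).map (Over.forget _)) inferInstance
  haveI : Surjective π.left := by
    haveI : Surjective (D.o.left ≫ π.left) := by rw [← Over.comp_left, hπ]; exact hq.1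
    exact Surjective.of_comp D.o.left π.left
  haveI : AlgebraicGeometry.IsNoetherian Q.left := by
    haveI := hq.1
    haveI := hq.2.1
    haveI := hq.2.2.1
    haveI : IsLocallyNoetherian G.left := LocallyOfFiniteType.isLocallyNoetherian G.hom
    haveI : CompactSpace Q.left := ⟨by
      rw [← q.left.surjective.range_eq]
      exact isCompact_range q.left.continuous⟩
    haveI : IsLocallyNoetherian Q.left := AlgSpLib.isLocallyNoetherian_of_flat q.left
    exact { }
  exact ChevAffine.isAffine_of_finite_surjective π.left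

omit [IsMonHom h] [Mono h] [IsMonHom v] [Mono v] in
/-- The quotients by the centraliser and the normaliser are affine. -/
theorem main (h : H ⟶ G) [IsMonHom h] [Mono h] (hH : SGA3x.IsMultTypeFT H)
    {C N : Over (Spec (CommRingCat.of k))} [GrpObj C] [GrpObj N] {c : C ⟶ G} {n : N ⟶ G}
    (hC : Red.IsCentralizerOf h c) (hN : Red.IsNormalizerOf h n) :
    (∀ (Q : Over (Spec (CommRingCat.of k))) (q : G ⟶ Q), RedSub.IsQuotient c q → IsAffine Q.left) ∧
    (∀ (Q : Over (Spec (CommRingCat.of k))) (q : G ⟶ Q), RedSub.IsQuotient n q → IsAffine Q.left) := by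
  obtain ⟨L, _, v, e, A, υ, _, _, hL, _, hA, _, _, hcomm, hl, hl'⟩ := exists_setup h hH
  obtain ⟨D⟩ := nonempty_orbitData (v := v) hA hL
  refine ⟨fun Q q hq => ?_, fun Q q hq => isAffine_quot_normalizer D hA hcomm hL hl hl' hC hN q hq⟩
  obtain ⟨eQ⟩ := nonempty_quot_iso hq (isQuotient_orbit D hA hcomm hC)
  haveI := D.affine
  haveI : IsIso eQ.hom.left := inferInstanceAs (IsIso ((Over.forget _).map eQ.hom))
  exact IsAffine.of_isIso eQ.hom.left

end Groth.Agent.MultQuot
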