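import Groth.Agent.RedRank.Family
import Groth.Agent.MultTypeLib.TransporterSmooth
import Groth.Agent.GrpSchLib.MultTypeBC
import Groth.Agent.MultQuot.CentStab

/-!
# Orbits in the scheme of homomorphisms out of a group of multiplicative type
-/

universe u

open CategoryTheory CategoryTheory.Limits MonoidalCategory CartesianMonoidalCategory MonObj AlgebraicGeometry

set_option backward.isDefEq.respectTransparency false
set_option backward.isDefEq.respectTransparency.types false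
set_option synthInstance.maxHeartbeats 80000
set_option linter.style.haveILetI false

noncomputable section

namespace Groth.Agent.MultQuot

open DSPtsLib

variable {S : Scheme.{u}} {L G A : Over S} [GrpObj L] [GrpObj G] {υ : L ⊗ A ⟶ G} (hA : AutFam.RepresentsHom L G A υ)

include hA in
/-- Points of the scheme of homomorphisms are determined by their homomorphisms. -/
theorem ext_pt {X : Over S} {a b : X ⟶ A}
    (h : ∀ (X' : Over S) (x : X' ⟶ X) (l : X' ⟶ L), lift l (x ≫ a) ≫ υ = lift l (x ≫ b) ≫ υ) : a = b := by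
  refine (hA.2 X _ (HomRepLib.isHomFamily_comp hA.1 b)).unique ?_ rfl
  beta_reduce
  rw [← Category.id_comp ((L ◁ a) ≫ υ), ← Category.id_comp ((L ◁ b) ≫ υ), ← lift_fst_snd, lift_whiskerLeft_assoc,
    lift_whiskerLeft_assoc]
  exact h (L ⊗ X) (snd L X) (fst L X)

include hA in
/-- The action of the group on its scheme of homomorphisms. -/
theorem exists_act : ∃ act : G ⊗ A ⟶ A, ∀ (X : Over S) (l : X ⟶ L) (g : X ⟶ G) (a : X ⟶ A),
    lift l (lift g a ≫ act) ≫ υ = g * (lift l a ≫ υ) * g⁻¹ := by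
  let g₀ : L ⊗ (G ⊗ A) ⟶ G := snd _ _ ≫ fst _ _
  obtain ⟨act, hact, -⟩ := hA.2 (G ⊗ A) (g₀ * ((L ◁ snd G A) ≫ υ) * g₀⁻¹) fun X g₁ g₂ t => by
    simp only [g₀, MonObj.comp_mul, GrpObj.comp_inv, lift_snd_assoc, lift_whiskerLeft_assoc]
    rw [hA.1 X g₁ g₂ (t ≫ snd G A)]
    group
  refine ⟨act, fun X l g a => ?_⟩
  have h := congrArg (lift l (lift g a) ≫ ·) hact
  simp only [g₀, MonObj.comp_mul, GrpObj.comp_inv, lift_snd_assoc, lift_whiskerLeft_assoc, lift_fst, lift_snd] at h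
  exact h

variable {act : G ⊗ A ⟶ A} (hact : ∀ (X : Over S) (l : X ⟶ L) (g : X ⟶ G) (a : X ⟶ A),
  lift l (lift g a ≫ act) ≫ υ = g * (lift l a ≫ υ) * g⁻¹)

include hA hact in
theorem act_one {X : Over S} (a : X ⟶ A) : lift 1 a ≫ act = a := by
  refine ext_pt hA fun X' x l => ?_
  rw [comp_lift_assoc, hact, MonObj.comp_one, _root_.one_mul, inv_one, _root_.mul_one]

include hA hact in
theorem act_mul {X : Over S} (g h : X ⟶ G) (a : X ⟶ A) : lift g (lift h a ≫ act) ≫ act = lift (g * h) a ≫ act := by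
  refine ext_pt hA fun X' x l => ?_
  simp only [comp_lift_assoc, hact, MonObj.comp_mul]
  group

include hA hact in
/-- The stabiliser of the point of a homomorphism is its centraliser. -/
theorem act_eq_iff (v : L ⟶ G) (av : 𝟙_ (Over S) ⟶ A)
    (hav : ∀ (X : Over S) (l : X ⟶ L), lift l (toUnit X ≫ av) ≫ υ = l ≫ v) {X : Over S} (g g' : X ⟶ G) :
    lift g (toUnit X ≫ av) ≫ act = lift g' (toUnit X ≫ av) ≫ act ↔ Comm v (g⁻¹ * g') := by
  have key : ∀ (X' : Over S) (x : X' ⟶ X) (l : X' ⟶ L) (p : X ⟶ G),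
      lift l (x ≫ lift p (toUnit X ≫ av) ≫ act) ≫ υ = (x ≫ p) * (l ≫ v) * (x ≫ p)⁻¹ := fun X' x l p => by
    rw [comp_lift_assoc, hact, ← Category.assoc x (toUnit X) av, toUnit_unique (x ≫ toUnit X) (toUnit X'), hav]
  constructor
  · intro h X' x l
    have h' := (key X' x l g).symm.trans ((congrArg (fun z => lift l (x ≫ z) ≫ υ) h).trans (key X' x l g'))
    rw [MonObj.comp_mul, GrpObj.comp_inv]
    have h2 := congrArg (fun z => (x ≫ g)⁻¹ * z * (x ≫ g')) h'
    simp only [_root_.mul_assoc, inv_mul_cancel_left, inv_mul_cancel, _root_.mul_one] at h2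
    simp only [_root_.mul_assoc]
    exact h2.symm
  · intro h
    refine ext_pt hA fun X' x l => ?_
    rw [key, key]
    have h2 := congrArg (fun z => (x ≫ g) * z * (x ≫ g')⁻¹) (h X' x l)
    simp only [MonObj.comp_mul, GrpObj.comp_inv, _root_.mul_assoc, mul_inv_cancel_left, mul_inv_cancel,
      _root_.mul_one] at h2
    simp only [_root_.mul_assoc]
    exact h2.symm

include hA hact in
/-- The orbit maps are smooth. -/
theorem smooth_act (hL : SGA3x.IsMultTypeFT L) [IsAffineHom G.hom] [Smooth G.hom] {Z : Over S} (a : Z ⟶ A) :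
    Smooth (lift ((G ◁ a) ≫ act) (snd G Z) : G ⊗ Z ⟶ A ⊗ Z).left := by
  let W := A ⊗ Z
  let t : W.left ⟶ S := W.hom
  let Φ : G ⊗ Z ⟶ W := lift ((G ◁ a) ≫ act) (snd G Z)
  let idW : (Over.map t).obj (𝟙_ (Over W.left)) ⟶ W := Over.homMk (𝟙 W.left)
  let q : ∀ Y : Over W.left, (Over.map t).obj Y ⟶ W := fun Y => (Over.map t).map (toUnit Y) ≫ idW
  have hq : ∀ Y : Over W.left, (q Y).left = Y.hom := fun Y => by
    show (toUnit Y).left ≫ 𝟙 _ = _
    exact Over.w (toUnit Y)
  obtain ⟨u₁, _, hu₁⟩ := RedRank.exists_hom t ((L ◁ idW) ≫ (L ◁ (snd A Z ≫ a)) ≫ υ)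
    (HomRepLib.isHomFamily_comp (HomRepLib.isHomFamily_comp hA.1 _) _)
  obtain ⟨u₂, _, hu₂⟩ := RedRank.exists_hom t ((L ◁ idW) ≫ (L ◁ fst A Z) ≫ υ)
    (HomRepLib.isHomFamily_comp (HomRepLib.isHomFamily_comp hA.1 _) _)
  haveI : Smooth (Red.bc t G).hom := inferInstanceAs (Smooth (pullback.snd G.hom t))
  haveI : IsAffineHom (Red.bc t G).hom := MorphismProperty.pullback_snd G.hom t inferInstance
  obtain ⟨T, j, hjc, hTs, hT⟩ := MultTypeLib.TransporterSmooth.exists_transporter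
    (GrpSchLib.MultTypeBC.isMultTypeFT_bc t hL) u₁ u₂
  have htr : ∀ (Y : Over W.left) (g : Y ⟶ Red.bc t G), MultTypeLib.TransporterLift.Transp u₁ u₂ g ↔
      ∀ (Y' : Over W.left) (x : Y' ⟶ Y) (l : (Over.map t).obj Y' ⟶ L),
        theta t (x ≫ g) * (lift l (q Y' ≫ snd A Z ≫ a) ≫ υ) * (theta t (x ≫ g))⁻¹ =
          lift l (q Y' ≫ fst A Z) ≫ υ := by
    intro Y g
    have e1 : ∀ (Y' : Over W.left) (l : Y' ⟶ Red.bc t L), theta t (l ≫ u₁) = lift (theta t l) (q Y' ≫ snd A Z ≫ a) ≫ υ :=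
      fun Y' l => by rw [hu₁, lift_whiskerLeft_assoc, lift_whiskerLeft_assoc]
    have e2 : ∀ (Y' : Over W.left) (l : Y' ⟶ Red.bc t L), theta t (l ≫ u₂) = lift (theta t l) (q Y' ≫ fst A Z) ≫ υ :=
      fun Y' l => by rw [hu₂, lift_whiskerLeft_assoc, lift_whiskerLeft_assoc]
    have hinv : ∀ (Y' : Over W.left) (z : Y' ⟶ Red.bc t G), theta t z⁻¹ = (theta t z)⁻¹ := fun Y' z =>
      eq_inv_iff_mul_eq_one.mpr (by rw [← theta_mul, inv_mul_cancel, GrpSchLib.HomUnitLocus.theta_one])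
    constructor
    · intro h Y' x l
      obtain ⟨l', rfl⟩ := (theta_bijective t).2 l
      have h' := congrArg (theta t) (h Y' x l')
      rwa [theta_mul, theta_mul, hinv, e1, e2] at h'
    · intro h Y' x l
      refine (theta_bijective t).1 ?_
      rw [theta_mul, theta_mul, hinv, e1, e2]
      exact h Y' x _
  let Y₀ : Over W.left := Over.mk Φ.left
  let e₀ : (Over.map t).obj Y₀ ⟶ G ⊗ Z := Over.homMk (𝟙 _) (by
    show 𝟙 _ ≫ (G ⊗ Z).hom = Φ.left ≫ W.hom
    rw [Category.id_comp]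
    exact (Over.w Φ).symm)
  have hqY₀ : q Y₀ = e₀ ≫ Φ := Over.OverMorphism.ext ((hq Y₀).trans (Category.id_comp _).symm)
  obtain ⟨g₀, hg₀⟩ := (theta_bijective (g := t) (Y := Y₀) (H := G)).2 (e₀ ≫ fst G Z)
  obtain ⟨t₀, ht₀⟩ := (hT Y₀ g₀).mpr ((htr Y₀ g₀).mpr fun Y' x l => by
    have hqx : q Y' = (Over.map t).map x ≫ q Y₀ := Over.OverMorphism.ext (by
      rw [hq, Over.comp_left, hq]
      exact (Over.w x).symm)
    rw [theta_comp, hg₀, hqx, hqY₀]
    simp only [Φ, Category.assoc, lift_fst, lift_snd_assoc]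
    have hy : ∀ {V : Over S} (m : G ⊗ Z ⟶ V), (Over.map t).map x ≫ e₀ ≫ m = ((Over.map t).map x ≫ e₀) ≫ m :=
      fun m => (Category.assoc _ _ _).symm
    rw [hy, hy, hy]
    generalize (Over.map t).map x ≫ e₀ = y
    rw [show y ≫ G ◁ a ≫ act = lift (y ≫ fst G Z) (y ≫ snd G Z ≫ a) ≫ act by
      rw [← Category.assoc]
      congr 1
      apply CartesianMonoidalCategory.hom_ext <;> simp]
    rw [hact])
  let ψ : (Over.map t).obj T ⟶ G ⊗ Z := lift (theta t j) (q T ≫ snd A Z)
  have hj := (htr T j).mp ((hT T j).mp ⟨𝟙 T, Category.id_comp j⟩)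
  have hψΦ : ψ ≫ Φ = q T := by
    apply CartesianMonoidalCategory.hom_ext
    · simp only [Φ, Category.assoc, lift_fst]
      refine ext_pt hA fun X' x l => ?_
      have e : x ≫ ψ ≫ (G ◁ a) ≫ act = lift (x ≫ theta t j) (x ≫ q T ≫ snd A Z ≫ a) ≫ act := by
        simp only [ψ, lift_whiskerLeft_assoc, comp_lift_assoc, Category.assoc]
      rw [e, hact]
      let Y' : Over W.left := Over.mk (x.left ≫ T.hom)
      let x' : Y' ⟶ T := Over.homMk x.left rfl
      let c : X' ≅ (Over.map t).obj Y' := Over.isoMk (Iso.refl _) (by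
        show 𝟙 _ ≫ (x.left ≫ T.hom) ≫ t = X'.hom
        rw [Category.id_comp, Category.assoc]
        exact Over.w x)
      have hx : c.hom ≫ (Over.map t).map x' = x := Over.OverMorphism.ext (Category.id_comp _)
      have hqx : q Y' = (Over.map t).map x' ≫ q T := Over.OverMorphism.ext (by rw [hq, Over.comp_left, hq]; rfl)
      have h := congrArg (c.hom ≫ ·) (hj Y' x' (c.inv ≫ l))
      simp only [MonObj.comp_mul, GrpObj.comp_inv, comp_lift_assoc, theta_comp, hqx, Category.assoc,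
        Iso.hom_inv_id_assoc, reassoc_of% hx] at h
      exact h
    · simp only [Φ, ψ, Category.assoc, lift_snd]
  have hinv1 : t₀.left ≫ ψ.left = 𝟙 _ := by
    have h : (Over.map t).map t₀ ≫ ψ = e₀ := by
      apply CartesianMonoidalCategory.hom_ext
      · rw [Category.assoc, lift_fst, ← theta_comp, ht₀, hg₀]
      · rw [Category.assoc, lift_snd, ← Category.assoc,
          show (Over.map t).map t₀ ≫ q T = q Y₀ from Over.OverMorphism.ext (by
            rw [Over.comp_left, hq, hq]; exact Over.w t₀), hqY₀, Category.assoc, lift_snd]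
    exact congrArg Over.Hom.left h
  have hinv2 : ψ.left ≫ t₀.left = 𝟙 _ := by
    haveI : IsClosedImmersion j.left := hjc
    have hg₀' : g₀.left ≫ pullback.fst G.hom t = (fst G Z).left :=
      (theta_left t g₀).symm.trans ((congrArg Over.Hom.left hg₀).trans (Category.id_comp _))
    have ht₀' : t₀.left ≫ j.left = g₀.left := congrArg Over.Hom.left ht₀
    rw [← cancel_mono j.left, Category.assoc, ht₀']
    refine pullback.hom_ext ?_ ?_
    · erw [Category.assoc, hg₀', Category.id_comp]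
      exact congrArg Over.Hom.left (show ψ ≫ fst G Z = theta t j from lift_fst _ _)
    · erw [Category.assoc, Over.w g₀, Category.id_comp, Over.w j]
      exact ((congrArg Over.Hom.left hψΦ).trans (hq T))
  haveI : IsIso t₀.left := ⟨ψ.left, hinv1, hinv2⟩
  haveI := hTs
  rw [show (lift ((G ◁ a) ≫ act) (snd G Z) : G ⊗ Z ⟶ A ⊗ Z).left = t₀.left ≫ T.hom from (Over.w t₀).symm]
  infer_instance

end Groth.Agent.MultQuot
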