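import Groth.Agent.MultQuot.Orbit
import Groth.Agent.H23.RedSub
import Mathlib.AlgebraicGeometry.Morphisms.UniversallyOpen
import Mathlib.AlgebraicGeometry.PullbackCarrier

/-!
# Orbits in the scheme of homomorphisms over a field are open and closed
-/

universe u

open CategoryTheory CategoryTheory.Limits MonoidalCategory CartesianMonoidalCategory MonObj AlgebraicGeometry
open TopologicalSpace

set_option backward.isDefEq.respectTransparency false
set_option backward.isDefEq.respectTransparency.types false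
set_option linter.style.haveILetI false

noncomputable section

namespace Groth.Agent.MultQuot

variable {S : Scheme.{u}} {L G A : Over S} [GrpObj L] [GrpObj G] {υ : L ⊗ A ⟶ G} (hA : AutFam.RepresentsHom L G A υ)
  {act : G ⊗ A ⟶ A} (hact : ∀ (X : Over S) (l : X ⟶ L) (g : X ⟶ G) (a : X ⟶ A),
    lift l (lift g a ≫ act) ≫ υ = g * (lift l a ≫ υ) * g⁻¹)

/-- The orbit map of a point. -/
abbrev orbit (act : G ⊗ A ⟶ A) (av : 𝟙_ (Over S) ⟶ A) : G ⟶ A := lift (𝟙 G) (toUnit G ≫ av) ≫ act

theorem comp_orbit (act : G ⊗ A ⟶ A) (av : 𝟙_ (Over S) ⟶ A) {X : Over S} (g : X ⟶ G) :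
    g ≫ orbit act av = lift g (toUnit X ≫ av) ≫ act := by
  rw [comp_lift_assoc, Category.comp_id, ← Category.assoc g, toUnit_unique (g ≫ toUnit G) (toUnit X)]

include hA hact in
/-- The orbit map is smooth. -/
theorem smooth_orbit (hL : SGA3x.IsMultTypeFT L) [IsAffineHom G.hom] [Smooth G.hom] (av : 𝟙_ (Over S) ⟶ A) :
    Smooth (orbit act av).left := by
  haveI := smooth_act hA hact hL av
  have h : orbit act av = (ρ_ G).inv ≫ lift ((G ◁ av) ≫ act) (snd G (𝟙_ (Over S))) ≫ (ρ_ A).hom := by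
    rw [CartesianMonoidalCategory.rightUnitor_hom, lift_fst,
      show (ρ_ G).inv = lift (𝟙 G) (toUnit G) from by
        rw [← cancel_mono (ρ_ G).hom, Iso.inv_hom_id, CartesianMonoidalCategory.rightUnitor_hom, lift_fst],
      lift_whiskerLeft_assoc]
  rw [h, Over.comp_left, Over.comp_left]
  haveI : IsIso (ρ_ G).inv.left := inferInstanceAs (IsIso ((Over.forget S).map (ρ_ G).inv))
  haveI : IsIso (ρ_ A).hom.left := inferInstanceAs (IsIso ((Over.forget S).map (ρ_ A).hom))
  infer_instance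

include hA hact in
/-- Over a field the orbits are closed. -/
theorem isClosed_range_orbit [IsIntegral S] [Subsingleton S] (hL : SGA3x.IsMultTypeFT L) [IsAffineHom G.hom]
    [Smooth G.hom] (av : 𝟙_ (Over S) ⟶ A) : IsClosed (Set.range (orbit act av).left) := by
  let o := orbit act av
  haveI : Smooth o.left := smooth_orbit hA hact hL av
  haveI : UniversallyOpen o.left := inferInstance
  have hΩ : IsOpen (Set.range o.left) := o.left.isOpenMap.isOpen_range
  haveI hΦs := smooth_act hA hact hL (𝟙 A)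
  let Φ : G ⊗ A ⟶ A ⊗ A := lift ((G ◁ 𝟙 A) ≫ act) (snd G A)
  haveI : Smooth Φ.left := hΦs
  haveI : UniversallyOpen Φ.left := inferInstance
  have hR : IsOpen (Set.range Φ.left) := Φ.left.isOpenMap.isOpen_range
  rw [← closure_subset_iff_isClosed]
  intro a ha
  by_contra hna
  let Zc : Closeds A.left := ⟨(Set.range o.left)ᶜ, hΩ.isClosed_compl⟩
  let ι₀ := (Scheme.IdealSheafData.vanishingIdeal Zc).subschemeι
  have hι₀ : Set.range ι₀ = (Set.range o.left)ᶜ := H23.RedSub.range_vanishingIdeal Zc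
  let Z : Over S := Over.mk (ι₀ ≫ A.hom)
  let i : Z ⟶ A := Over.homMk ι₀ rfl
  obtain ⟨a', ha'⟩ : a ∈ Set.range ι₀ := by rw [hι₀]; exact hna
  let d : Z ⟶ A ⊗ Z := lift i (𝟙 Z)
  let m : A ⊗ Z ⟶ A ⊗ A := A ◁ i
  haveI : UniversallyOpen Z.hom := inferInstance
  haveI : UniversallyOpen (fst A Z).left := inferInstanceAs (UniversallyOpen (pullback.fst A.hom Z.hom))
  have hV : IsOpen ((fst A Z).left '' (m.left ⁻¹' Set.range Φ.left)) :=
    (fst A Z).left.isOpenMap _ (hR.preimage m.left.continuous)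
  have haV : a ∈ (fst A Z).left '' (m.left ⁻¹' Set.range Φ.left) := by
    refine ⟨d.left a', ⟨(lift 1 i : Z ⟶ G ⊗ A).left a', ?_⟩, ?_⟩
    · rw [← Scheme.Hom.comp_apply, ← Scheme.Hom.comp_apply, ← Over.comp_left, ← Over.comp_left]
      refine congrArg (fun z : Z ⟶ A ⊗ A => z.left a') ?_
      apply CartesianMonoidalCategory.hom_ext <;> simp [Φ, d, m, act_one hA hact]
    · rw [← Scheme.Hom.comp_apply, ← Over.comp_left, show d ≫ fst A Z = i from lift_fst _ _]
      exact ha'
  obtain ⟨b, ⟨w, ⟨y, hy⟩, hwb⟩, g₁, hg₁⟩ := mem_closure_iff.mp ha _ hV haV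
  obtain ⟨P, hP₁, hP₂⟩ := Scheme.Pullback.exists_preimage_pullback (f := o.left) (g := (Φ ≫ fst A A).left) g₁ y (by
    rw [hg₁, Over.comp_left, Scheme.Hom.comp_apply, hy, ← hwb, ← Scheme.Hom.comp_apply, ← Over.comp_left]
    exact congrArg (fun z : A ⊗ Z ⟶ A => z.left w) (show fst A Z = m ≫ fst A A by simp [m]))
  let τ := (pullback o.left (Φ ≫ fst A A).left).fromSpecResidueField P
  let pt : ↥(Spec ((pullback o.left (Φ ≫ fst A A).left).residueField P)) :=
    IsLocalRing.closedPoint ((pullback o.left (Φ ≫ fst A A).left).residueField P)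
  have hτ : τ pt = P := Scheme.fromSpecResidueField_apply P _
  let X : Over S := Over.mk (τ ≫ pullback.fst _ _ ≫ G.hom)
  let g : X ⟶ G := Over.homMk (τ ≫ pullback.fst _ _) (Category.assoc _ _ _)
  let z : X ⟶ G ⊗ A := Over.homMk (τ ≫ pullback.snd _ _) (by
    show (τ ≫ pullback.snd _ _) ≫ (G ⊗ A).hom = τ ≫ pullback.fst _ _ ≫ G.hom
    rw [← Over.w (Φ ≫ fst A A), Category.assoc, ← Category.assoc (pullback.snd _ _), ← pullback.condition,
      Category.assoc, Over.w o])
  have he : g ≫ o = lift (z ≫ fst G A) (z ≫ snd G A) ≫ act := by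
    have h : g ≫ o = z ≫ Φ ≫ fst A A := Over.OverMorphism.ext (by
      show (τ ≫ pullback.fst _ _) ≫ o.left = (τ ≫ pullback.snd _ _) ≫ (Φ ≫ fst A A).left
      rw [Category.assoc, Category.assoc, pullback.condition])
    rw [h]
    simp only [Φ, lift_fst, whiskerLeft_id, Category.id_comp]
    rw [← comp_lift, lift_fst_snd, Category.comp_id]
  have hsnd : ((z ≫ fst G A)⁻¹ * g) ≫ o = z ≫ snd G A := by
    rw [comp_orbit, ← act_mul hA hact, ← comp_orbit, he, act_mul hA hact, inv_mul_cancel, act_one hA hact]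
  have hmem : (z ≫ snd G A).left pt ∈ Set.range o.left := by
    rw [← hsnd]
    exact ⟨((z ≫ fst G A)⁻¹ * g).left pt, (Scheme.Hom.comp_apply _ _ pt).symm⟩
  have hz : (z ≫ snd G A).left pt = ι₀ ((snd A Z).left w) := by
    have h1 : z.left pt = y := by
      show (τ ≫ pullback.snd _ _) pt = y
      rw [Scheme.Hom.comp_apply, hτ, hP₂]
    have h2 : Φ ≫ snd A A = snd G A := lift_snd _ _
    rw [Over.comp_left, Scheme.Hom.comp_apply, h1, ← h2, Over.comp_left, Scheme.Hom.comp_apply, hy,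
      ← Scheme.Hom.comp_apply, ← Over.comp_left, show m ≫ snd A A = snd A Z ≫ i by simp [m]]
    rfl
  rw [hz] at hmem
  exact (hι₀.le ⟨_, rfl⟩) hmem

end Groth.Agent.MultQuot
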