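import Groth.Agent.MultTypeLib.Sub
import Groth.Agent.MultTypeLib.HopfKer
import Groth.Agent.MultTypeLib.LocalCriteria
import Groth.Agent.MultTypeLib.TorsionDense
import Groth.Agent.MultTypeExt.PowFinite
import Groth.Agent.MultTypeExt.Torsion
import Groth.Agent.MultTypeQI.Recognize
import Groth.Agent.HenselHom.Bridge
import Mathlib.RingTheory.Flat.Basic
import Mathlib.LinearAlgebra.TensorProduct.Basis

/-!
# The finite torsion subgroups of a group of multiplicative type over a field
-/

universe u

open CategoryTheory MonoidalCategory CartesianMonoidalCategory MonObj AlgebraicGeometry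
open scoped TensorProduct

set_option backward.isDefEq.respectTransparency.types false

noncomputable section

namespace Groth.Agent.MultQuot

open GrpSchLib.AffineHopf

variable {k : Type u} [Field k] {C : Type u} [CommRing C] [HopfAlgebra k C]

local notation "Jt" => SGA3b.torsionIdeal k C

/-- The unit point. -/
theorem one_eq_spMap (T : Type u) [CommRing T] [Algebra k T] :
    (1 : sp k T ⟶ sp k C) = spMap ((Algebra.ofId k T).comp (Bialgebra.counitAlgHom k C)) := by
  rw [spMap_eq_mapMulEquiv]
  exact (map_one Spec.mapMulEquiv).symm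

/-- A point is killed by `n` exactly when it lies in the torsion subscheme. -/
theorem pow_eq_one_iff {T : Type u} [CommRing T] [Algebra k T] (f : C →ₐ[k] T) (n : ℕ) :
    spMap f ^ n = 1 ↔ Jt n ≤ RingHom.ker f := by
  have h : spMap f ^ n = spMap (f.comp (SGA3b.powConv k C n)) := by
    rw [← spMap_comp, MultTypeExt.spMap_powConv, MonObj.comp_pow, Category.comp_id]
  rw [h, one_eq_spMap]
  constructor
  · intro he
    have he' := spMap_injective he
    rw [SGA3b.torsionIdeal, Ideal.map_le_iff_le_comap]
    intro c hc
    rw [Ideal.mem_comap, RingHom.mem_ker]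
    exact (DFunLike.congr_fun he' c).trans (by simp [RingHom.mem_ker.mp hc])
  · intro hle
    congr 1
    refine AlgHom.ext fun c => ?_
    have hc : c - algebraMap k C (Bialgebra.counitAlgHom k C c) ∈ RingHom.ker (Bialgebra.counitAlgHom k C) := by
      rw [RingHom.mem_ker, map_sub, AlgHom.commutes, Algebra.algebraMap_self, RingHom.id_apply, sub_self]
    have h0 : f (SGA3b.powConv k C n (c - algebraMap k C (Bialgebra.counitAlgHom k C c))) = 0 :=
      RingHom.mem_ker.mp (hle (Ideal.mem_map_of_mem _ hc))
    rw [map_sub, map_sub, AlgHom.commutes, AlgHom.commutes, sub_eq_zero] at h0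
    exact h0

theorem pow_mk_eq_one (n : ℕ) : spMap (Ideal.Quotient.mkₐ k (Jt n)) ^ n = 1 :=
  (pow_eq_one_iff _ n).mpr (fun c hc => Ideal.Quotient.eq_zero_iff_mem.mpr hc)

variable [Algebra.FiniteType k C] (hC : SGA3b.IsMultType k C)

include hC in
/-- The torsion subgroups are finite. -/
theorem finite_torsion (n : ℕ) (hn : 0 < n) : Module.Finite k (C ⧸ Jt n) := by
  classical
  let φ := SGA3b.powConv k C n
  letI : Algebra C C := φ.toRingHom.toAlgebra
  obtain ⟨s, hs⟩ := (MultTypeExt.finite_powConv inferInstance hC n hn : φ.toRingHom.Finite)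
  refine ⟨s.image (Ideal.Quotient.mk (Jt n)), eq_top_iff.mpr fun z _ => ?_⟩
  obtain ⟨c, rfl⟩ := Ideal.Quotient.mk_surjective z
  have hmem : ∀ y : C, y ∈ @Submodule.span C C _ _ φ.toRingHom.toAlgebra.toModule (s : Set C) →
      Ideal.Quotient.mk (Jt n) y ∈ Submodule.span k ((s.image (Ideal.Quotient.mk (Jt n)) : Finset _) : Set (C ⧸ Jt n)) := by
    intro y hy
    induction hy using Submodule.span_induction with
    | mem g hg => exact Submodule.subset_span (Finset.mem_coe.mpr (Finset.mem_image_of_mem _ hg))
    | zero => rw [map_zero]; exact zero_mem _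
    | add a b _ _ ha hb => rw [map_add]; exact add_mem ha hb
    | smul a g _ hg =>
      have h := (pow_eq_one_iff (Ideal.Quotient.mkₐ k (Jt n)) n).mp (pow_mk_eq_one n)
      have hc : a - algebraMap k C (Bialgebra.counitAlgHom k C a) ∈ RingHom.ker (Bialgebra.counitAlgHom k C) := by
        rw [RingHom.mem_ker, map_sub, AlgHom.commutes, Algebra.algebraMap_self, RingHom.id_apply, sub_self]
      have ha : Ideal.Quotient.mk (Jt n) (φ a) = algebraMap k (C ⧸ Jt n) (Bialgebra.counitAlgHom k C a) := by
        have h0 : Ideal.Quotient.mk (Jt n) (φ (a - algebraMap k C (Bialgebra.counitAlgHom k C a))) = 0 :=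
          RingHom.mem_ker.mp (h (Ideal.mem_map_of_mem _ hc))
        rw [map_sub, map_sub, AlgHom.commutes, sub_eq_zero] at h0
        exact h0
      show Ideal.Quotient.mk (Jt n) (φ a * g) ∈ _
      rw [map_mul, ha, ← Algebra.smul_def]
      exact Submodule.smul_mem _ _ hg
  exact hmem c (hs.ge trivial)

include hC in
/-- The torsion subgroups are of multiplicative type. -/
theorem isMultTypeFT_torsion (n : ℕ) [(Jt n).IsHopfIdeal k] (hn : 0 < n) :
    SGA3x.IsMultTypeFT (sp k (C ⧸ Jt n)) := by
  haveI := finite_torsion hC n hn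
  have hm := MultTypeLib.isMultType_torsion (J := Jt n) hC n rfl
  exact (HenselHom.exists_split_cover (MultTypeLib.isIsotrivial_of_field_ext k k _ inferInstance
    (MultTypeLib.isMultType_baseChange k hm))).1

include hC in
/-- The torsion subgroups are schematically dense after any extension of scalars. -/
theorem eq_zero_of_torsion {T : Type u} [CommRing T] [Algebra k T] (z : C ⊗[k] T)
    (h : ∀ n, 0 < n → Algebra.TensorProduct.map (Ideal.Quotient.mkₐ k (Jt n)) (AlgHom.id k T) z = 0) : z = 0 := by
  classical
  let b := Module.Free.chooseBasis k T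
  apply (TensorProduct.equivFinsuppOfBasisRight b).injective
  rw [map_zero]
  refine Finsupp.ext fun i => ?_
  rw [Finsupp.zero_apply]
  have key : ∀ n, Ideal.Quotient.mk (Jt n) (TensorProduct.equivFinsuppOfBasisRight b z i) =
      TensorProduct.equivFinsuppOfBasisRight b
        (Algebra.TensorProduct.map (Ideal.Quotient.mkₐ k (Jt n)) (AlgHom.id k T) z) i := fun n => by
    clear h
    induction z using TensorProduct.induction_on with
    | zero => simp
    | add x y hx hy => simp only [map_add, Finsupp.add_apply, hx, hy]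
    | tmul c t =>
      rw [Algebra.TensorProduct.map_tmul, TensorProduct.equivFinsuppOfBasisRight_apply_tmul_apply,
        TensorProduct.equivFinsuppOfBasisRight_apply_tmul_apply]
      exact map_smul (Ideal.Quotient.mkₐ k (Jt n)) _ _
  have hmem : ∀ n : {n : ℕ // 0 < n}, TensorProduct.equivFinsuppOfBasisRight b z i ∈ Jt n.1 := fun n =>
    Ideal.Quotient.eq_zero_iff_mem.mp (by rw [key, h n.1 n.2, map_zero, Finsupp.zero_apply])
  have h1 : algebraMap C (Localization.Away (1 : C)) (TensorProduct.equivFinsuppOfBasisRight b z i) ∈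
      ⨅ n : {n : ℕ // 0 < n}, (Jt n.1).map (algebraMap C (Localization.Away (1 : C))) :=
    Ideal.mem_iInf.mpr fun n => Ideal.mem_map_of_mem _ (hmem n)
  rw [MultTypeLib.TorsionDense.iInf_torsionIdeal inferInstance hC, Ideal.mem_bot] at h1
  exact (IsLocalization.to_map_eq_zero_iff (Localization.Away (1 : C))
    (Submonoid.powers_le.mpr (one_mem (nonZeroDivisors C)))).mp h1

end Groth.Agent.MultQuot
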